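import Cfsg.Agent.H256.RC.ZBase
import Cfsg.Agent.ClassicalGeometry.TrialitySpaces

/-!
# S3510, triality type (iii), mixed case, part (P2) (helper551)

`p2` : an automorphism `u` of the twisted product `dia (fG s)` with `N = u - 1`, `N² = 0`, `N V` totally singular of
dimension four does not exist.
-/

set_option autoImplicit false
open Cfsg

namespace Cfsg.Agent.H551.Tri

open Module QuadraticMap Cfsg.Agent.LieClassical.OrthCore Cfsg.Agent.LieClassical.OrthTrans
  Cfsg.Agent.LieClassical.OrthSimple Cfsg.Agent.ClassicalGeometry.OrthAut1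
  Cfsg.Agent.ClassicalGeometry.OrthSemi Cfsg.Agent.H198.Classes
  Cfsg.Agent.LieClassical.QuadForms Cfsg.Agent.H198.ClassesPlus
  Cfsg.Agent.ClassicalGeometry.TrialityOct Cfsg.Agent.ClassicalGeometry.Triality
  Cfsg.Agent.ClassicalGeometry.TrialitySpaces Cfsg.Agent.H198.TriBase Cfsg.Agent.H198.TriAut
  Cfsg.Agent.H198.TriDia Cfsg.Agent.H198.TriTC Cfsg.Agent.H198.TwComp Cfsg.Agent.H256.RC

universe u

variable {F : Type u} [Field F] {s : F ≃+* F}

/-- the kernel of `f ◇ ·` -/
def kerL (h3 : ∀ a, s (s (s a)) = a) (f : V8 F) : Submodule F (V8 F) where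
  carrier := {w | dia (fG s) f w = 0}
  zero_mem' := (tc_fG h3).zero_right f
  add_mem' := fun {a b} ha hb => by
    show dia (fG s) f (a + b) = 0
    rw [(tc_fG h3).add_right, show dia (fG s) f a = 0 from ha, show dia (fG s) f b = 0 from hb, add_zero]
  smul_mem' := fun c a ha => by
    show dia (fG s) f (c • a) = 0
    rw [(tc_fG h3).smul_right, show dia (fG s) f a = 0 from ha, smul_zero]

/-- the kernel of `· ◇ f` -/
def kerR (h3 : ∀ a, s (s (s a)) = a) (f : V8 F) : Submodule F (V8 F) where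
  carrier := {w | dia (fG s) w f = 0}
  zero_mem' := (tc_fG h3).zero_left f
  add_mem' := fun {a b} ha hb => by
    show dia (fG s) (a + b) f = 0
    rw [(tc_fG h3).add_left, show dia (fG s) a f = 0 from ha, show dia (fG s) b f = 0 from hb, add_zero]
  smul_mem' := fun c a ha => by
    show dia (fG s) (c • a) f = 0
    rw [(tc_fG h3).smul_left, show dia (fG s) a f = 0 from ha, smul_zero]

/-- the parameter of `f ◇ V` -/
def pl (s : F ≃+* F) (f : V8 F) : V8 F := oconj ((fG s).1 ((fG s).1 f))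

/-- the parameter of `V ◇ f` -/
def pr (s : F ≃+* F) (f : V8 F) : V8 F := oconj ((fG s).1 f)

theorem dia_pl (h3 : ∀ a, s (s (s a)) = a) (f w : V8 F) : dia (fG s) f w = omul (pl s f) (pr s w) :=
  dia_eq (tri_fG s) (fG_cube h3) f w

theorem tau3 (h3 : ∀ a, s (s (s a)) = a) (v : V8 F) : (fG s).1 ((fG s).1 ((fG s).1 v)) = v := by
  funext i
  rw [fG_apply, fG_apply, fG_apply, h3]

theorem pl_surj (h3 : ∀ a, s (s (s a)) = a) (x : V8 F) : ∃ f, pl s f = x :=
  ⟨(fG s).1 (oconj x), by rw [pl, tau3 h3, oconj_oconj]⟩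

theorem pr_surj (h3 : ∀ a, s (s (s a)) = a) (x : V8 F) : ∃ f, pr s f = x :=
  ⟨(fG s).1 ((fG s).1 (oconj x)), by rw [pr, tau3 h3, oconj_oconj]⟩

theorem norm_fG (v : V8 F) : plusForm 4 F ((fG s).1 v) = s (plusForm 4 F v) := by
  have h1 : IsSS (plusForm 4 F) s 1 (fG s).1 := isSS_fP s
  rw [h1.form, one_mul]

theorem norm_pl (f : V8 F) : plusForm 4 F (pl s f) = s (s (plusForm 4 F f)) := by
  rw [pl, norm_oconj, norm_fG, norm_fG]

theorem norm_pr (f : V8 F) : plusForm 4 F (pr s f) = s (plusForm 4 F f) := by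
  rw [pr, norm_oconj, norm_fG]

theorem pl_ne {f : V8 F} (hf : f ≠ 0) : pl s f ≠ 0 := by
  apply oconj_ne_zero
  intro h
  have h1 : ∀ v : V8 F, (fG s).1 v = 0 → v = 0 := by
    intro v hv
    funext i
    have := congrFun hv i
    rw [fG_apply] at this
    exact s.injective (by rw [this]; exact (map_zero s).symm)
  exact hf (h1 _ (h1 _ h))

theorem pr_ne {f : V8 F} (hf : f ≠ 0) : pr s f ≠ 0 := by
  apply oconj_ne_zero
  intro h
  have h1 : ∀ v : V8 F, (fG s).1 v = 0 → v = 0 := by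
    intro v hv
    funext i
    have := congrFun hv i
    rw [fG_apply] at this
    exact s.injective (by rw [this]; exact (map_zero s).symm)
  exact hf (h1 _ h)

theorem kerL_sing (h3 : ∀ a, s (s (s a)) = a) {f : V8 F} (hf : f ≠ 0) : ∀ w ∈ kerL h3 f, plusForm 4 F w = 0 := by
  intro w hw
  have h1 : dia (fG s) f w = 0 := hw
  rw [dia_pl h3] at h1
  have h2 := ker_leftMul_sing (pl_ne (s := s) hf) (pr s w) h1
  rw [norm_pr] at h2
  exact s.injective (by rw [h2, map_zero])

theorem kerR_sing (h3 : ∀ a, s (s (s a)) = a) {f : V8 F} (hf : f ≠ 0) : ∀ w ∈ kerR h3 f, plusForm 4 F w = 0 := by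
  intro w hw
  have h1 : dia (fG s) w f = 0 := hw
  rw [dia_pl h3] at h1
  have h2 := ker_rightMul_sing (pr_ne (s := s) hf) (pl s w) h1
  rw [norm_pl] at h2
  exact s.injective (s.injective (by rw [h2, map_zero, map_zero]))

/-- `ker (f ◇ ·) = V ◇ f` -/
theorem kerL_eq (h3 : ∀ a, s (s (s a)) = a) {f : V8 F} (hf : f ≠ 0) (hQ : plusForm 4 F f = 0) :
    kerL h3 f = rightSp (pr s f) := by
  have h1 : rightSp (pr s f) ≤ kerL h3 f := by
    rintro _ ⟨y, rfl⟩
    obtain ⟨v, rfl⟩ := pl_surj h3 y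
    show dia (fG s) f (omul (pl s v) (pr s f)) = 0
    rw [← dia_pl h3, (tc_fG h3).right, hQ, map_zero, zero_smul]
  symm
  apply Submodule.eq_of_le_of_finrank_le h1
  rw [finrank_rightSp (by rw [norm_pr, hQ, map_zero]) (pr_ne hf)]
  exact finrank_le_four (kerL_sing h3 hf)

/-- `ker (· ◇ f) = f ◇ V` -/
theorem kerR_eq (h3 : ∀ a, s (s (s a)) = a) {f : V8 F} (hf : f ≠ 0) (hQ : plusForm 4 F f = 0) :
    kerR h3 f = leftSp (pl s f) := by
  have h1 : leftSp (pl s f) ≤ kerR h3 f := by
    rintro _ ⟨y, rfl⟩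
    obtain ⟨v, rfl⟩ := pr_surj h3 y
    show dia (fG s) (omul (pl s f) (pr s v)) f = 0
    rw [← dia_pl h3, (tc_fG h3).left, hQ, map_zero, zero_smul]
  symm
  apply Submodule.eq_of_le_of_finrank_le h1
  rw [finrank_leftSp (by rw [norm_pl, hQ, map_zero, map_zero]) (pl_ne hf)]
  exact finrank_le_four (kerR_sing h3 hf)

theorem pl_zero (h3 : ∀ a, s (s (s a)) = a) : pl s (0 : V8 F) = 0 := by
  obtain ⟨w, hw⟩ := pr_surj (F := F) h3 (one8 F)
  have h1 := dia_pl h3 0 w
  rw [(tc_fG h3).zero_left, hw, omul_one] at h1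
  exact h1.symm

theorem pr_zero (h3 : ∀ a, s (s (s a)) = a) : pr s (0 : V8 F) = 0 := by
  obtain ⟨w, hw⟩ := pl_surj (F := F) h3 (one8 F)
  have h1 := dia_pl h3 w 0
  rw [(tc_fG h3).zero_right, hw, one_omul] at h1
  exact h1.symm

/-- **(P2)** -/
theorem p2 (h3 : ∀ a, s (s (s a)) = a) {u : V8 F ≃ₗ[F] V8 F} (hu : u ∈ AutD (fG s))
    (hN : ∀ v, u (u v - v) = u v - v) (hs : ∀ v, plusForm 4 F (u v - v) = 0)
    (h4 : finrank F (LinearMap.range ((u : V8 F →ₗ[F] V8 F) - 1)) = 4) : False := by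
  have T := tc_fG (F := F) h3
  set M := LinearMap.range ((u : V8 F →ₗ[F] V8 F) - 1) with hM
  have hMm : ∀ v, u v - v ∈ M := fun v => ⟨v, rfl⟩
  have hMf : ∀ w ∈ M, u w = w := by
    rintro _ ⟨v, rfl⟩
    exact hN v
  have hMs : ∀ w ∈ M, plusForm 4 F w = 0 := by
    rintro _ ⟨v, rfl⟩
    exact hs v
  obtain ⟨x, hx, hx0, hL | hR⟩ := isOct_of_singular hMs h4
  · obtain ⟨f, rfl⟩ := pl_surj h3 x
    have hf : plusForm 4 F f = 0 := by
      rw [norm_pl] at hx
      exact s.injective (s.injective (by rw [hx, map_zero, map_zero]))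
    have hf0 : f ≠ 0 := by
      rintro rfl
      exact hx0 (pl_zero h3)
    have key : ∀ w, dia (fG s) f (u w - w) + dia (fG s) (u f - f) (u w) = 0 := by
      intro w
      have h1 : dia (fG s) f w ∈ M := by
        rw [hL, dia_pl h3]
        exact ⟨_, rfl⟩
      have h2 := hMf _ h1
      rw [hu.2] at h2
      have h5 : dia (fG s) (u f) (u w) = dia (fG s) f (u w) + dia (fG s) (u f - f) (u w) := by
        rw [← T.add_left, add_sub_cancel]
      have h6 : dia (fG s) f (u w) = dia (fG s) f w + dia (fG s) f (u w - w) := by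
        rw [← T.add_right, add_sub_cancel]
      rw [h5, h6, add_assoc] at h2
      exact left_eq_add.1 h2.symm
    have aux : ∀ h : V8 F, h ≠ 0 → plusForm 4 F h = 0 → (∀ w ∈ M, dia (fG s) h w = 0) → False := by
      intro h h0 hQ hw
      have e1 : M ≤ rightSp (pr s h) := by
        rw [← kerL_eq h3 h0 hQ]
        exact hw
      have hQ' : plusForm 4 F (pr s h) = 0 := by rw [norm_pr, hQ, map_zero]
      have e2 := Submodule.eq_of_le_of_finrank_le e1 (by rw [finrank_rightSp hQ' (pr_ne h0), h4])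
      exact leftSp_ne_rightSp hx hx0 hQ' (pr_ne h0) (hL.symm.trans e2)
    by_cases h0 : u f - f = 0
    · refine aux f hf0 hf ?_
      rintro _ ⟨w, rfl⟩
      have h1 := key w
      rw [h0, T.zero_left, add_zero] at h1
      exact h1
    · refine aux (u f - f) h0 (hs f) ?_
      intro w hw
      have h1 := key w
      rwa [hMf w hw, sub_self, T.zero_right, zero_add] at h1
  · obtain ⟨f, rfl⟩ := pr_surj h3 x
    have hf : plusForm 4 F f = 0 := by
      rw [norm_pr] at hx
      exact s.injective (by rw [hx, map_zero])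
    have hf0 : f ≠ 0 := by
      rintro rfl
      exact hx0 (pr_zero h3)
    have key : ∀ w, dia (fG s) (u w - w) f + dia (fG s) (u w) (u f - f) = 0 := by
      intro w
      have h1 : dia (fG s) w f ∈ M := by
        rw [hR, dia_pl h3]
        exact ⟨_, rfl⟩
      have h2 := hMf _ h1
      rw [hu.2] at h2
      have h5 : dia (fG s) (u w) (u f) = dia (fG s) (u w) f + dia (fG s) (u w) (u f - f) := by
        rw [← T.add_right, add_sub_cancel]
      have h6 : dia (fG s) (u w) f = dia (fG s) w f + dia (fG s) (u w - w) f := by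
        rw [← T.add_left, add_sub_cancel]
      rw [h5, h6, add_assoc] at h2
      exact left_eq_add.1 h2.symm
    have aux : ∀ h : V8 F, h ≠ 0 → plusForm 4 F h = 0 → (∀ w ∈ M, dia (fG s) w h = 0) → False := by
      intro h h0 hQ hw
      have e1 : M ≤ leftSp (pl s h) := by
        rw [← kerR_eq h3 h0 hQ]
        exact hw
      have hQ' : plusForm 4 F (pl s h) = 0 := by rw [norm_pl, hQ, map_zero, map_zero]
      have e2 := Submodule.eq_of_le_of_finrank_le e1 (by rw [finrank_leftSp hQ' (pl_ne h0), h4])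
      exact leftSp_ne_rightSp hQ' (pl_ne h0) hx hx0 (e2.symm.trans hR)
    by_cases h0 : u f - f = 0
    · refine aux f hf0 hf ?_
      rintro _ ⟨w, rfl⟩
      have h1 := key w
      rw [h0, T.zero_right, add_zero] at h1
      exact h1
    · refine aux (u f - f) h0 (hs f) ?_
      intro w hw
      have h1 := key w
      rwa [hMf w hw, sub_self, T.zero_left, zero_add] at h1

/-- **(P2)**, the form of helper93 -/
theorem rank_ne_four [CharP F 2] (h3 : ∀ a, s (s (s a)) = a) {u : V8 F ≃ₗ[F] V8 F} (hu : u ∈ AutD (fG s))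
    (hu2 : u ^ 2 = 1) (halt : ∀ v, polar (plusForm 4 F) v (u v) = 0) :
    finrank F (LinearMap.range ((u : V8 F →ₗ[F] V8 F) - 1)) ≠ 4 := by
  intro h4
  have h2 : (2 : F) = 0 := by exact_mod_cast CharP.cast_eq_zero F 2
  have hneg : ∀ v : V8 F, -v = v := fun v => neg_eq_of_add_eq_zero_left (by rw [← two_smul F v, h2, zero_smul])
  have huu : ∀ v, u (u v) = v := fun v => LinearEquiv.congr_fun hu2 v
  have hsub : ∀ v w : V8 F, v - w = v + w := fun v w => by rw [sub_eq_add_neg, hneg]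
  refine p2 h3 hu (fun v => ?_) (fun v => ?_) h4
  · rw [map_sub, huu, hsub, hsub, add_comm]
  · rw [hsub, Q_add, AutD_norm hu, polar_comm, halt, add_zero]
    linear_combination (plusForm 4 F v) * h2

end Cfsg.Agent.H551.Tri
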